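import Cfsg.Agent.EqLemmas

/-!
Groups acting on eighteen points such that every point stabiliser has a normal 17-subgroup
fixing only that point (helper71).

* `Geo`: the hypothesis
* `pretransitive`, `two_trans`, `three_fixed`, `pair_facts`, `card_eq_mul`
* `mem_Q_of_pow`, `exists_fixed_of_pow`, `pow_mem_of_normal`
* `core_isSimple`: the subgroup generated by the 17-elements is simple
-/

set_option autoImplicit false

namespace Cfsg.Agent.SylowSeventeen

open MulAction Subgroup

/-- eighteen points, each with a normal 17-subgroup of its stabiliser fixing it alone -/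
structure Geo (H X : Type*) [Group H] [MulAction H X] : Prop where
  card_eq : Nat.card X = 18
  exists_Q : ∀ a : X, ∃ Q : Subgroup H, IsPGroup 17 Q ∧
    (∀ g : H, g • a = a → ∀ q ∈ Q, g * q * g⁻¹ ∈ Q) ∧ (∀ q ∈ Q, q • a = a) ∧
    ∀ b, b ≠ a → ∃ q ∈ Q, q • b ≠ b

namespace Geo

variable {H X : Type*} [Group H] [Finite H] [MulAction H X] [FaithfulSMul H X]

section

variable (hG : Geo H X)
include hG

theorem finite_X : Finite X := Nat.finite_of_card_ne_zero (by rw [hG.card_eq]; norm_num)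

theorem exists_regular (a : X) : ∃ Q : Subgroup H, Nat.card Q = 17 ∧
    (∀ g : H, g • a = a → ∀ q ∈ Q, g * q * g⁻¹ ∈ Q) ∧ (∀ q ∈ Q, q • a = a) ∧
    (∀ b c, b ≠ a → c ≠ a → ∃ q ∈ Q, q • b = c) ∧
    (∀ q ∈ Q, ∀ b, b ≠ a → q • b = b → q = 1) := by
  classical
  haveI := hG.finite_X
  haveI : Fact (Nat.Prime 17) := ⟨by norm_num⟩
  obtain ⟨Q, hQ, hnorm, hfix, hmove⟩ := hG.exists_Q a
  have hfree : ∀ q ∈ Q, ∀ b, b ≠ a → q • b = b → q = 1 := by
    intro q hq b hb hqb
    have hp : IsPGroup 17 (zpowers q) := hQ.to_le (zpowers_le.mpr hq)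
    refine eq_of_smul_eq_smul (α := X) fun c => ?_
    rw [one_smul]
    by_cases hc : c = a
    · rw [hc]; exact hfix q hq
    by_cases hcb : c = b
    · rw [hcb]; exact hqb
    obtain ⟨k, hk⟩ := hp.card_orbit c
    have hpow : ∀ (z : zpowers q) (w : X), q • w = w → z • w = w := fun z w hw => by
      obtain ⟨j, hj⟩ := mem_zpowers_iff.mp z.2
      show (z : H) • w = w
      rw [← hj]
      exact (zpowers_le.mpr (show q ∈ stabilizer H w from hw) : zpowers q ≤ _) (zpow_mem_zpowers q j)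
    have hsub : orbit (zpowers q) c ⊆ ({a, b} : Set X)ᶜ := by
      rintro w ⟨z, rfl⟩ hw
      simp only [Set.mem_insert_iff, Set.mem_singleton_iff] at hw
      rcases hw with hw | hw
      · exact hc (MulAction.injective z (hw.trans (hpow z a (hfix q hq)).symm))
      · exact hcb (MulAction.injective z (hw.trans (hpow z b hqb).symm))
    have hle := Set.ncard_le_ncard hsub (Set.toFinite _)
    rw [Set.ncard_compl, Set.ncard_pair hb.symm, hG.card_eq,
      ← Nat.card_coe_set_eq, hk] at hle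
    have hk0 : k = 0 := by
      by_contra h
      have := Nat.le_self_pow h 17
      omega
    rw [hk0, pow_zero, Nat.card_eq_one_iff_unique] at hk
    have h1 := @Subsingleton.elim _ hk.1
      (⟨(⟨q, mem_zpowers q⟩ : zpowers q) • c, mem_orbit _ _⟩ : orbit (zpowers q) c)
      ⟨c, mem_orbit_self c⟩
    exact congrArg Subtype.val h1
  have horb : ∀ b, b ≠ a → orbit Q b = ({a} : Set X)ᶜ ∧ Nat.card (orbit Q b) = 17 := by
    intro b hb
    obtain ⟨k, hk⟩ := hQ.card_orbit b
    have hsub : orbit Q b ⊆ ({a} : Set X)ᶜ := by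
      rintro w ⟨z, rfl⟩ hw
      exact hb (MulAction.injective z
        ((Set.mem_singleton_iff.mp hw).trans (hfix _ z.2).symm))
    have hle := Set.ncard_le_ncard hsub (Set.toFinite _)
    have h17 : ({a} : Set X)ᶜ.ncard = 17 := by
      rw [Set.ncard_compl, Set.ncard_singleton, hG.card_eq]
    obtain ⟨q, hq, hqb⟩ := hmove b hb
    have hk0 : k ≠ 0 := fun e => by
      rw [e, pow_zero, Nat.card_eq_one_iff_unique] at hk
      exact hqb (congrArg Subtype.val (@Subsingleton.elim _ hk.1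
        (⟨(⟨q, hq⟩ : Q) • b, mem_orbit _ _⟩ : orbit Q b) ⟨b, mem_orbit_self b⟩))
    rw [h17, ← Nat.card_coe_set_eq, hk] at hle
    have hge := Nat.le_self_pow hk0 17
    have hcard : Nat.card (orbit Q b) = 17 := by omega
    exact ⟨Set.eq_of_subset_of_ncard_le hsub (by rw [h17, ← Nat.card_coe_set_eq, hcard])
      (Set.toFinite _), hcard⟩
  obtain ⟨b, hb⟩ : ∃ b : X, b ≠ a := by
    by_contra! h
    haveI : Subsingleton X := ⟨fun x y => (h x).trans (h y).symm⟩
    have := Finite.card_le_one_iff_subsingleton.mpr ‹Subsingleton X›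
    rw [hG.card_eq] at this
    omega
  refine ⟨Q, ?_, hnorm, hfix, ?_, hfree⟩
  · rw [← (horb b hb).2]
    refine Nat.card_congr (Equiv.ofBijective (fun q => ⟨q • b, mem_orbit _ _⟩) ⟨?_, ?_⟩)
    · intro q r h
      have h' : q • b = r • b := congrArg Subtype.val h
      have h1 : (r⁻¹ * q) • b = b := by rw [mul_smul, h', inv_smul_smul]
      have := hfree _ (r⁻¹ * q).2 b hb h1
      exact Subtype.ext (inv_mul_eq_one.mp this).symm
    · rintro ⟨w, q, rfl⟩
      exact ⟨q, rfl⟩
  · intro b c hb hc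
    have : c ∈ orbit Q b := by rw [(horb b hb).1]; exact hc
    obtain ⟨q, hq⟩ := this
    exact ⟨q, q.2, hq⟩

theorem exists_other (a b : X) : ∃ c, c ≠ a ∧ c ≠ b := by
  classical
  haveI := hG.finite_X
  by_contra! h
  have hsub : (Set.univ : Set X) ⊆ {a, b} := fun c _ => by
    by_cases hc : c = a
    · exact Or.inl hc
    · exact Or.inr (h c hc)
  have hle := Set.ncard_le_ncard hsub (Set.toFinite _)
  have h2 : ({a, b} : Set X).ncard ≤ 2 := by
    by_cases hab : a = b
    · subst hab; simp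
    · rw [Set.ncard_pair hab]
  rw [Set.ncard_univ, hG.card_eq] at hle
  omega

theorem pretransitive : IsPretransitive H X := ⟨fun x y => by
  obtain ⟨c, hcx, hcy⟩ := hG.exists_other x y
  obtain ⟨Q, -, -, -, htr, -⟩ := hG.exists_regular c
  obtain ⟨q, -, hq⟩ := htr x y hcx.symm hcy.symm
  exact ⟨q, hq⟩⟩

theorem two_trans {a b c d : X} (hab : a ≠ b) (hcd : c ≠ d) :
    ∃ g : H, g • a = c ∧ g • b = d := by
  obtain ⟨g, hg⟩ := hG.pretransitive.exists_smul_eq a c
  obtain ⟨Q, -, -, hfix, htr, -⟩ := hG.exists_regular c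
  obtain ⟨q, hq, hqd⟩ := htr (g • b) d (fun e => hab (MulAction.injective g (hg.trans e.symm))) hcd.symm
  exact ⟨q * g, by rw [mul_smul, hg, hfix q hq], by rw [mul_smul, hqd]⟩

theorem mult_pretransitive : IsMultiplyPretransitive H X 2 :=
  is_two_pretransitive_iff.mpr fun h h' => hG.two_trans h h'

/-- no non-trivial element fixes three points -/
theorem three_fixed {g : H} {a b c : X} (hab : a ≠ b) (hbc : b ≠ c) (hac : a ≠ c)
    (ha : g • a = a) (hb : g • b = b) (hc : g • c = c) : g = 1 := by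
  obtain ⟨Q, hcard, hnorm, hfix, htr, hfree⟩ := hG.exists_regular a
  obtain ⟨q, hq, hqb⟩ := htr b c hab.symm hac.symm
  have hcomm : g * q * g⁻¹ = q := by
    have h1 : (q⁻¹ * (g * q * g⁻¹)) • b = b := by
      rw [mul_smul, mul_smul, mul_smul, inv_smul_eq_iff.mpr hb.symm, hqb, hc, ← hqb, inv_smul_smul]
    exact (inv_mul_eq_one.mp (hfree _ (mul_mem (inv_mem hq) (hnorm g ha q hq)) b hab.symm h1)).symm
  have hq1 : q ≠ 1 := fun e => hbc (by rw [← hqb, e, one_smul])
  refine eq_of_smul_eq_smul (α := X) fun x => ?_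
  rw [one_smul]
  by_cases hx : x = a
  · rw [hx, ha]
  obtain ⟨r, hr, hrb⟩ := htr b x hab.symm hx
  haveI : Fact (Nat.Prime 17) := ⟨by norm_num⟩
  obtain ⟨j, hj⟩ := mem_zpowers_iff.mp (show (⟨r, hr⟩ : Q) ∈ zpowers (⟨q, hq⟩ : Q) from
    mem_zpowers_of_prime_card hcard (fun e => hq1 (congrArg Subtype.val e)))
  have hrq : g * r * g⁻¹ = r := by
    have hj' : q ^ j = r := by simpa using congrArg Subtype.val hj
    rw [← hj', ← conj_zpow, hcomm]
  rw [← hrb, ← mul_smul, show g * r = r * g by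
    calc g * r = g * r * g⁻¹ * g := by group
      _ = r * g := by rw [hrq], mul_smul, hb]

/-- elements of the stabiliser of `a` killed by 17 lie in every regular subgroup at `a` -/
theorem mem_Q_of_pow {a : X} {Q : Subgroup H} (hcard : Nat.card Q = 17)
    (hnorm : ∀ g : H, g • a = a → ∀ q ∈ Q, g * q * g⁻¹ ∈ Q) (hfix : ∀ q ∈ Q, q • a = a)
    (htr : ∀ b c, b ≠ a → c ≠ a → ∃ q ∈ Q, q • b = c)
    (hfree : ∀ q ∈ Q, ∀ b, b ≠ a → q • b = b → q = 1)
    {x : H} (hxa : x • a = a) (hcomm : ∀ q ∈ Q, x * q = q * x) : x ∈ Q := by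
  have := hcard; have := hnorm; have := hfree
  obtain ⟨b, hb, -⟩ := hG.exists_other a a
  have hxb : x • b ≠ a := fun e => hb (MulAction.injective x (e.trans hxa.symm))
  obtain ⟨r, hr, hrb⟩ := htr b (x • b) hb hxb
  have : r⁻¹ * x = 1 := by
    refine eq_of_smul_eq_smul (α := X) fun c => ?_
    rw [one_smul]
    by_cases hc : c = a
    · rw [hc, mul_smul, hxa]
      exact hfix _ (inv_mem hr)
    obtain ⟨s, hs, hsb⟩ := htr b c hb hc
    have hrs : r⁻¹ * s = s * r⁻¹ := by
      haveI : Fact (Nat.Prime 17) := ⟨by norm_num⟩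
      haveI := isCyclic_of_prime_card (p := 17) hcard
      letI := IsCyclic.commGroup (α := Q)
      exact congrArg Subtype.val (mul_comm (⟨r⁻¹, inv_mem hr⟩ : Q) ⟨s, hs⟩)
    rw [← hsb, ← mul_smul, mul_assoc, hcomm s hs, ← mul_assoc, hrs, mul_assoc, mul_smul, mul_smul,
      ← hrb, inv_smul_smul]
  rw [inv_mul_eq_one] at this
  exact this ▸ hr

theorem mem_regular {a : X} {Q : Subgroup H} (hcard : Nat.card Q = 17)
    (hnorm : ∀ g : H, g • a = a → ∀ q ∈ Q, g * q * g⁻¹ ∈ Q) (hfix : ∀ q ∈ Q, q • a = a)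
    (htr : ∀ b c, b ≠ a → c ≠ a → ∃ q ∈ Q, q • b = c)
    (hfree : ∀ q ∈ Q, ∀ b, b ≠ a → q • b = b → q = 1)
    {x : H} (hxa : x • a = a) (hx : x ^ 17 = 1) : x ∈ Q := by
  refine hG.mem_Q_of_pow hcard hnorm hfix htr hfree hxa fun q hq => ?_
  haveI : Fact (Nat.Prime 17) := ⟨by norm_num⟩
  haveI := isCyclic_of_prime_card (p := 17) hcard
  have hxn : x ∈ normalizer (Q : Set H) := mem_normalizer_iff.mpr fun y => ⟨hnorm x hxa y,
    fun hy => by
      have := hnorm x⁻¹ (inv_smul_eq_iff.mpr hxa.symm) _ hy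
      simpa [mul_assoc] using this⟩
  set θ := Q.normalizerMonoidHom ⟨x, hxn⟩
  have h1 : θ ^ 17 = 1 := by
    rw [← map_pow]
    convert map_one Q.normalizerMonoidHom
    exact Subtype.ext (by simpa using hx)
  have h2 : θ ^ 16 = 1 := by
    have hc : Nat.card (MulAut Q) = 16 := by
      rw [IsCyclic.card_mulAut, hcard, Nat.totient_prime (by norm_num)]
    haveI : Finite (MulAut Q) := Nat.finite_of_card_ne_zero (by rw [hc]; norm_num)
    rw [← hc]; exact pow_card_eq_one'
  have h3 : θ = 1 := by simpa [h2] using (show θ ^ 16 * θ = 1 by rw [← pow_succ]; exact h1)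
  have : x * q * x⁻¹ = q := congrArg Subtype.val (DFunLike.congr_fun h3 (⟨q, hq⟩ : Q))
  calc x * q = x * q * x⁻¹ * x := by group
    _ = q * x := by rw [this]

theorem exists_fixed_of_pow {x : H} (hx : x ^ 17 = 1) : ∃ a : X, x • a = a := by
  haveI := hG.finite_X
  haveI : Fact (Nat.Prime 17) := ⟨by norm_num⟩
  have hp : IsPGroup 17 (zpowers x) := fun z => ⟨1, by
    obtain ⟨j, hj⟩ := mem_zpowers_iff.mp z.2
    refine Subtype.ext ?_
    rw [SubgroupClass.coe_pow, pow_one, ← hj, ← zpow_natCast, ← zpow_mul, mul_comm, zpow_mul,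
      zpow_natCast, hx, one_zpow, OneMemClass.coe_one]⟩
  obtain ⟨a, ha⟩ := hp.nonempty_fixed_point_of_prime_not_dvd_card X
    (by rw [hG.card_eq]; norm_num)
  exact ⟨a, ha ⟨x, mem_zpowers x⟩⟩

theorem pair_facts {a b : X} (hab : a ≠ b) :
    IsCyclic ↥(stabilizer H a ⊓ stabilizer H b) ∧
      Nat.card ↥(stabilizer H a ⊓ stabilizer H b) ∣ 16 := by
  obtain ⟨Q, hcard, hnorm, hfix, htr, -⟩ := hG.exists_regular a
  haveI : Fact (Nat.Prime 17) := ⟨by norm_num⟩
  haveI := isCyclic_of_prime_card (p := 17) hcard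
  set S := stabilizer H a ⊓ stabilizer H b
  have hle : S ≤ normalizer (Q : Set H) := fun x hx => mem_normalizer_iff.mpr fun y => ⟨
    hnorm x hx.1 y, fun hy => by
      have := hnorm x⁻¹ (inv_smul_eq_iff.mpr (show a = x • a from hx.1.symm)) _ hy
      simpa [mul_assoc] using this⟩
  let θ := Q.normalizerMonoidHom.comp (Subgroup.inclusion hle)
  have hθ : Function.Injective θ := by
    rw [injective_iff_map_eq_one]
    rintro ⟨x, hx⟩ h
    refine Subtype.ext (eq_of_smul_eq_smul (α := X) fun c => ?_)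
    rw [OneMemClass.coe_one, one_smul]
    by_cases hc : c = a
    · rw [hc]; exact hx.1
    obtain ⟨q, hq, hqc⟩ := htr b c hab.symm hc
    have : x * q * x⁻¹ = q := congrArg Subtype.val (DFunLike.congr_fun h (⟨q, hq⟩ : Q))
    rw [← hqc, ← mul_smul, show x * q = q * x by
      calc x * q = x * q * x⁻¹ * x := by group
        _ = q * x := by rw [this], mul_smul, show x • b = b from hx.2]
  have hc16 : Nat.card (MulAut Q) = 16 := by
    rw [IsCyclic.card_mulAut, hcard, Nat.totient_prime (by norm_num)]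
  haveI : IsCyclic (MulAut Q) := by
    rw [(IsCyclic.mulAutMulEquiv Q).isCyclic, hcard]
    infer_instance
  exact ⟨isCyclic_of_injective θ hθ, hc16 ▸ card_dvd_of_injective θ hθ⟩

theorem card_eq_mul {a b : X} (hab : a ≠ b) :
    Nat.card H = 306 * Nat.card ↥(stabilizer H a ⊓ stabilizer H b) := by
  haveI := hG.finite_X
  haveI := hG.pretransitive
  have h1 : Nat.card H = Nat.card X * Nat.card (stabilizer H a) := by
    rw [← index_stabilizer_of_transitive H a, mul_comm, card_mul_index]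
  set A := stabilizer H a
  have horb : orbit A b = ({a} : Set X)ᶜ := by
    ext c
    constructor
    · rintro ⟨g, rfl⟩ h
      exact hab.symm (MulAction.injective g ((Set.mem_singleton_iff.mp h).trans g.2.symm))
    · intro hc
      obtain ⟨g, hga, hgb⟩ := hG.two_trans hab (show a ≠ c from fun e => hc e.symm)
      exact ⟨⟨g, hga⟩, hgb⟩
  have h2 : Nat.card A = 17 * Nat.card (stabilizer A b) := by
    rw [← (stabilizer A b).card_mul_index, index_stabilizer, horb, Set.ncard_compl,
      Set.ncard_singleton, hG.card_eq, mul_comm]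
  have h3 : Nat.card (stabilizer A b) = Nat.card ↥(A ⊓ stabilizer H b) :=
    Nat.card_congr
      { toFun := fun g => ⟨(g.1 : H), g.1.2, g.2⟩
        invFun := fun g => ⟨⟨g.1, g.2.1⟩, g.2.2⟩
        left_inv := fun _ => rfl
        right_inv := fun _ => rfl }
  rw [h1, h2, h3, hG.card_eq]
  ring

/-- a non-trivial normal subgroup contains every element killed by 17 -/
theorem pow_mem_of_normal (M : Subgroup H) [M.Normal] (hM : M ≠ ⊥) {x : H} (hx : x ^ 17 = 1) :
    x ∈ M := by
  classical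
  haveI := hG.finite_X
  haveI : Fact (Nat.Prime 17) := ⟨by norm_num⟩
  have h17 : 17 ∣ Nat.card M := by
    by_contra h17
    have hstab : ∀ a : X, ∀ m ∈ M, m • a = a → m = 1 := by
      intro a m hm hma
      obtain ⟨Q, hcard, hnorm, hfix, htr, hfree⟩ := hG.exists_regular a
      have hdisj : M ⊓ Q = ⊥ := inf_eq_bot_of_coprime (by
        rw [hcard]; exact ((Nat.Prime.coprime_iff_not_dvd (by norm_num)).mpr h17).symm)
      have hmQ : m ∈ Q := hG.mem_Q_of_pow hcard hnorm hfix htr hfree hma fun q hq => by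
        have h1 : m * q * m⁻¹ * q⁻¹ = 1 := by
          rw [← Subgroup.mem_bot (G := H), ← hdisj]
          refine mem_inf.mpr ⟨?_, mul_mem (hnorm m hma q hq) (inv_mem hq)⟩
          have := mul_mem hm (‹M.Normal›.conj_mem _ (inv_mem hm) q)
          simpa [mul_assoc] using this
        exact mul_inv_eq_iff_eq_mul.mp (mul_inv_eq_one.mp h1)
      rw [← Subgroup.mem_bot (G := H), ← hdisj]; exact ⟨hm, hmQ⟩
    obtain ⟨m, hm, hm1⟩ := (bot_or_exists_ne_one M).resolve_left hM
    obtain ⟨a, ha⟩ : ∃ a : X, m • a ≠ a := by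
      by_contra! h
      exact hm1 (eq_of_smul_eq_smul (α := X) fun c => by rw [h c, one_smul])
    have hbij : Function.Bijective (fun y : M => (y : H) • a) := by
      refine ⟨fun y z h => ?_, fun c => ?_⟩
      · have := hstab a ((z : H)⁻¹ * y) (mul_mem (inv_mem z.2) y.2)
          (by rw [mul_smul]; exact inv_smul_eq_iff.mpr h)
        exact Subtype.ext (inv_mul_eq_one.mp this).symm
      · by_cases hc : c = a
        · exact ⟨1, by simp [hc]⟩
        obtain ⟨Q, -, -, hfix, htr, -⟩ := hG.exists_regular a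
        obtain ⟨q, hq, hqc⟩ := htr (m • a) c ha hc
        exact ⟨⟨q * m * q⁻¹, ‹M.Normal›.conj_mem m hm q⟩, by
          show (q * m * q⁻¹) • a = c
          rw [mul_smul, mul_smul, hfix _ (inv_mem hq), hqc]⟩
    have hcardM : Nat.card M = 18 := (Nat.card_eq_of_bijective _ hbij).trans hG.card_eq
    obtain ⟨y, hy⟩ := exists_prime_orderOf_dvd_card' (G := M) 2 (by rw [hcardM]; norm_num)
    haveI : Fact (Nat.Prime 3) := ⟨by norm_num⟩
    obtain ⟨z, hz⟩ := exists_prime_orderOf_dvd_card' (G := M) 3 (by rw [hcardM]; norm_num)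
    have hne : ∀ w : M, w ≠ 1 → (w : H) • a ≠ a := fun w hw h => hw (Subtype.ext (hstab a w w.2 h))
    obtain ⟨Q, -, -, hfix, htr, -⟩ := hG.exists_regular a
    obtain ⟨q, hq, hqz⟩ := htr ((y : H) • a) ((z : H) • a)
      (hne y fun e => by rw [e, orderOf_one] at hy; omega)
      (hne z fun e => by rw [e, orderOf_one] at hz; omega)
    have e : (⟨q * y * q⁻¹, ‹M.Normal›.conj_mem _ y.2 q⟩ : M) = z := hbij.1 (by
      show (q * y * q⁻¹) • a = (z : H) • a
      rw [mul_smul, mul_smul, hfix _ (inv_mem hq), hqz])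
    have := congrArg orderOf e
    rw [← Subgroup.orderOf_coe, hz] at this
    have h2 : orderOf (q * (y : H) * q⁻¹) = 2 := by
      rw [show q * (y : H) * q⁻¹ = MulAut.conj q (y : H) from rfl, MulEquiv.orderOf_eq,
        Subgroup.orderOf_coe, hy]
    have h3 : orderOf (q * (y : H) * q⁻¹) = 3 := this
    omega
  obtain ⟨w, hw⟩ := exists_prime_orderOf_dvd_card' 17 h17
  have hw17 : (w : H) ^ 17 = 1 := by
    rw [← SubgroupClass.coe_pow]
    exact congrArg Subtype.val (hw ▸ pow_orderOf_eq_one w)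
  obtain ⟨a, hwa⟩ := hG.exists_fixed_of_pow hw17
  obtain ⟨b, hxb⟩ := hG.exists_fixed_of_pow hx
  obtain ⟨Q, hcard, hnorm, hfix, htr, hfree⟩ := hG.exists_regular a
  have hwQ := hG.mem_regular hcard hnorm hfix htr hfree hwa hw17
  obtain ⟨g, hg⟩ := hG.pretransitive.exists_smul_eq b a
  have hgx : g * x * g⁻¹ ∈ Q := hG.mem_regular hcard hnorm hfix htr hfree
    (by rw [← hg, mul_smul, mul_smul, inv_smul_smul, hxb])
    (by rw [conj_pow, hx, mul_one, mul_inv_cancel])
  have hw1 : (⟨w, hwQ⟩ : Q) ≠ 1 := fun e => by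
    have : w = 1 := Subtype.ext (congrArg Subtype.val e :)
    rw [this, orderOf_one] at hw
    norm_num at hw
  obtain ⟨j, hj⟩ := mem_zpowers_iff.mp (show (⟨_, hgx⟩ : Q) ∈ zpowers (⟨w, hwQ⟩ : Q) from
    mem_zpowers_of_prime_card hcard hw1)
  have hmem : g * x * g⁻¹ ∈ M := by
    have : (w : H) ^ j = g * x * g⁻¹ := by simpa using congrArg Subtype.val hj
    rw [← this]; exact zpow_mem w.2 j
  have := ‹M.Normal›.conj_mem _ hmem g⁻¹
  simpa [mul_assoc] using this

end

/-- the subgroup generated by the elements killed by 17 -/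
def core (H : Type*) [Group H] : Subgroup H := closure {x : H | x ^ 17 = 1}

omit [Finite H] in
instance core_normal : (core H).Normal := ⟨fun n hn g => by
  have h := mem_map_of_mem (MulAut.conj g).toMonoidHom hn
  rw [core, MonoidHom.map_closure] at h
  refine closure_mono ?_ h
  rintro _ ⟨x, hx, rfl⟩
  show (MulAut.conj g x) ^ 17 = 1
  rw [← map_pow, show x ^ 17 = 1 from hx, map_one]⟩

omit [Finite H] [MulAction H X] [FaithfulSMul H X] in
theorem mem_core {x : H} (hx : x ^ 17 = 1) : x ∈ core H := subset_closure hx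

theorem core_le (hG : Geo H X) {M : Subgroup H} [M.Normal] (hM : M ≠ ⊥) : core H ≤ M :=
  (closure_le M).mpr fun _ hx => hG.pow_mem_of_normal M hM hx

theorem core_geo (hG : Geo H X) : Geo (core H) X := by
  refine ⟨hG.card_eq, fun a => ?_⟩
  obtain ⟨Q, hQ, hnorm, hfix, hmove⟩ := hG.exists_Q a
  obtain ⟨Q', hcard, hnorm', hfix', htr', hfree'⟩ := hG.exists_regular a
  haveI : Fact (Nat.Prime 17) := ⟨by norm_num⟩
  have hle : Q' ≤ core H := fun q hq => mem_core (by
    have := pow_card_eq_one' (G := Q') (x := ⟨q, hq⟩)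
    rw [hcard] at this
    exact congrArg Subtype.val this)
  refine ⟨Q'.subgroupOf (core H), (IsPGroup.of_card (n := 1) (by
    rw [Nat.card_congr (subgroupOfEquivOfLe hle).toEquiv, hcard, pow_one])),
    fun g hg q hq => hnorm' g hg q hq, fun q hq => hfix' q hq, fun b hb => ?_⟩
  obtain ⟨c, hca, hcb⟩ := hG.exists_other a b
  obtain ⟨q, hq, hqc⟩ := htr' b c hb hca
  exact ⟨⟨q, hle hq⟩, hq, fun e => hcb (hqc.symm.trans e)⟩

instance core_faithful : FaithfulSMul (core H) X :=
  ⟨fun h => Subtype.ext (eq_of_smul_eq_smul (α := X) h)⟩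

theorem core_ne_bot (hG : Geo H X) : core H ≠ ⊥ := by
  intro h
  obtain ⟨a⟩ : Nonempty X := (Nat.card_pos_iff.mp (by rw [hG.card_eq]; norm_num)).1
  obtain ⟨Q, hcard, -, -, -, -⟩ := hG.exists_regular a
  have hle : Q ≤ core H := fun q hq => mem_core (by
    have := pow_card_eq_one' (G := Q) (x := ⟨q, hq⟩)
    rw [hcard] at this
    exact congrArg Subtype.val this)
  rw [h, le_bot_iff] at hle
  rw [hle] at hcard
  simp at hcard

theorem core_isSimple (hG : Geo H X) : IsSimpleGroup (core H) := by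
  haveI : Nontrivial (core H) := (nontrivial_iff_ne_bot _).mpr (core_ne_bot hG)
  refine ⟨fun M hM => ?_⟩
  refine or_iff_not_imp_left.mpr fun hb => ?_
  rw [eq_top_iff]
  intro x _
  have hmap : core H ≤ M.map (core H).subtype := (closure_le _).mpr fun y hy =>
    ⟨⟨y, mem_core hy⟩, (core_geo hG).pow_mem_of_normal M hb (Subtype.ext (by simpa using hy)), rfl⟩
  obtain ⟨y, hy, hyx⟩ := hmap x.2
  exact Subtype.ext hyx ▸ hy

end Geo

end Cfsg.Agent.SylowSeventeen
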