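import Cfsg.Agent.Lib.SylowSeventeen.Action
import Cfsg.Agent.Lib.SmallOrders.Check
import Cfsg.Agent.S0741

/-!
Orders and Sylow numbers for the eighteen point geometry (helper71).

* `core_card`, `card_cases`, `centralizer_core`
* `card_sylow_two`, `card_sylow_three`
-/

set_option autoImplicit false

namespace Cfsg.Agent.SylowSeventeen

open MulAction Subgroup
open scoped Pointwise

namespace Geo

variable {H X : Type*} [Group H] [Finite H] [MulAction H X] [FaithfulSMul H X] (hG : Geo H X)
include hG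

theorem exists_pair : ∃ a b : X, a ≠ b := by
  haveI := hG.finite_X
  obtain ⟨a⟩ : Nonempty X := (Nat.card_pos_iff.mp (by rw [hG.card_eq]; norm_num)).1
  obtain ⟨b, hb, -⟩ := hG.exists_other a a
  exact ⟨a, b, hb.symm⟩

theorem core_comm : ¬ IsMulCommutative (core H) := by
  haveI := hG.core_isSimple
  obtain ⟨a, b, hab⟩ := hG.exists_pair
  refine SmallOrders.not_isMulCommutative_of_card ?_
  rw [hG.core_geo.card_eq_mul hab]
  intro hp
  rcases hp.eq_one_or_self_of_dvd 2 ((show 2 ∣ 306 by norm_num).mul_right _) with h | h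
  · omega
  · have : 0 < Nat.card ↥(stabilizer (core H) a ⊓ stabilizer (core H) b) := Nat.card_pos
    omega

theorem core_card : Nat.card (core H) = 2448 := by
  haveI := hG.finite_X
  letI := Fintype.ofFinite X
  haveI := hG.core_isSimple
  have hN := hG.core_comm
  have hC := hG.core_geo
  obtain ⟨a, b, hab⟩ := hG.exists_pair
  have hcard := hC.card_eq_mul hab
  obtain ⟨-, hd⟩ := hC.pair_facts hab
  set S := stabilizer (core H) a ⊓ stabilizer (core H) b with hS
  obtain ⟨k, hk, hdk⟩ := (Nat.dvd_prime_pow Nat.prime_two).mp (show Nat.card S ∣ 2 ^ 4 from hd)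
  have hk0 : k ≠ 0 := by
    intro e
    rw [hdk, e] at hcard
    exact SmallOrders.card_ne_of_critBool hN 17 1 (by decide +kernel) hcard
  have hne : S ≠ ⊥ := by
    intro e
    rw [e, Subgroup.card_bot] at hdk
    exact absurd hdk.symm (Nat.one_lt_two_pow hk0).ne'
  obtain ⟨g, hg, hg1⟩ := (bot_or_exists_ne_one S).resolve_left hne
  have hZ : Cfsg.IsZassenhausGroup (core H) X := by
    refine ⟨inferInstance, hC.mult_pretransitive, fun g a b c h1 h2 h3 => hC.three_fixed h1 h2 h3,
      ⟨g, hg1, a, b, hab, hg.1, hg.2⟩, fun M hM htr => ⟨a, ?_⟩⟩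
    have hMb : M ≠ ⊥ := by
      rintro rfl
      obtain ⟨⟨x, hx⟩, hxa⟩ := htr.exists_smul_eq a b
      rw [Subgroup.mem_bot] at hx
      subst hx
      exact hab ((one_smul (core H) a).symm.trans hxa)
    have hMtop : M = ⊤ := hM.eq_bot_or_eq_top.resolve_left hMb
    intro e
    have : (⟨g, hMtop ▸ mem_top g⟩ : M) ∈ stabilizer M a := hg.1
    rw [e, Subgroup.mem_bot] at this
    exact hg1 (congrArg Subtype.val this)
  have heven : Even (Nat.card S) := by
    rw [hdk]; exact Nat.even_pow.mpr ⟨even_two, hk0⟩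
  have hlow := S0741.result hZ hab heven
  rw [← Nat.card_eq_fintype_card, hC.card_eq, hdk] at hlow
  rw [hdk] at hcard
  obtain rfl | rfl : k = 3 ∨ k = 4 := by
    interval_cases k <;> omega
  · rw [hcard]; norm_num
  · exact absurd hcard (SmallOrders.card_ne_of_critBool hN 17 1 (by decide +kernel))

theorem card_cases : Nat.card H = 2448 ∨ Nat.card H = 4896 := by
  obtain ⟨a, b, hab⟩ := hG.exists_pair
  have hcard := hG.card_eq_mul hab
  obtain ⟨-, hd⟩ := hG.pair_facts hab
  obtain ⟨k, hk, hdk⟩ := (Nat.dvd_prime_pow Nat.prime_two).mp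
    (show _ ∣ 2 ^ 4 from hd)
  rw [hdk] at hcard
  have hdvd := hG.core_card ▸ card_subgroup_dvd_card (core H)
  rw [hcard] at hdvd ⊢
  interval_cases k <;> omega

theorem centralizer_core : centralizer (core H : Set H) = ⊥ := by
  by_contra h
  have hle := hG.core_le h
  exact hG.core_comm ⟨⟨fun x y => Subtype.ext (mem_centralizer_iff.mp (hle y.2) x x.2)⟩⟩

/-- the set stabiliser of a pair is a self-normalising Sylow 2-subgroup -/
theorem card_sylow_two : Nat.card (Sylow 2 H) = 153 := by
  classical
  haveI := hG.finite_X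
  haveI : Fact (Nat.Prime 2) := ⟨Nat.prime_two⟩
  obtain ⟨a, b, hab⟩ := hG.exists_pair
  have hcard := hG.card_eq_mul hab
  obtain ⟨hcyc, -⟩ := hG.pair_facts hab
  set S := stabilizer H a ⊓ stabilizer H b with hS
  set T := stabilizer H ({a, b} : Set X) with hT
  obtain ⟨m, hm, hm4⟩ : ∃ m, Nat.card S = 2 ^ m ∧ 3 ≤ m := by
    rcases hG.card_cases with h | h
    · exact ⟨3, by norm_num; omega, le_rfl⟩
    · exact ⟨4, by norm_num; omega, by norm_num⟩
  have hmemT : ∀ {g : H}, g ∈ T ↔ (g • a = a ∧ g • b = b) ∨ (g • a = b ∧ g • b = a) := by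
    intro g
    rw [hT, mem_stabilizer_iff, Set.smul_set_insert, Set.smul_set_singleton, Set.pair_eq_pair_iff]
  have hST : S ≤ T := fun g hg => hmemT.mpr (Or.inl ⟨hg.1, hg.2⟩)
  obtain ⟨s, hsa, hsb⟩ := hG.two_trans hab hab.symm
  have hidx : S.relIndex T = 2 := by
    rw [relIndex, index_eq_two_iff]
    refine ⟨⟨s, hmemT.mpr (Or.inr ⟨hsa, hsb⟩)⟩, fun g => ?_⟩
    rcases hmemT.mp g.2 with ⟨h1, h2⟩ | ⟨h1, h2⟩
    · refine Or.inr ⟨⟨h1, h2⟩, fun h => ?_⟩
      have h3 : ((g : H) * s) • a = a := h.1
      rw [mul_smul, hsa, h2] at h3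
      exact hab h3.symm
    · refine Or.inl ⟨⟨?_, ?_⟩, fun h => hab ((show (g : H) • a = a from h.1).symm.trans h1)⟩
      · show ((g : H) * s) • a = a
        rw [mul_smul, hsa, h2]
      · show ((g : H) * s) • b = b
        rw [mul_smul, hsb, h1]
  have hTcard : Nat.card T = 2 ^ (m + 1) := by
    rw [← card_mul_index (S.subgroupOf T), Nat.card_congr (subgroupOfEquivOfLe hST).toEquiv, hm,
      ← relIndex, hidx, pow_succ]
  have hsq : ∀ {g : H}, g ∈ T → g ^ 2 ∈ S := by
    intro g hg
    rcases hmemT.mp hg with ⟨h1, h2⟩ | ⟨h1, h2⟩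
    · exact pow_mem (⟨h1, h2⟩ : g ∈ S) 2
    · exact ⟨by show g ^ 2 • a = a; rw [pow_two, mul_smul, h1, h2],
        by show g ^ 2 • b = b; rw [pow_two, mul_smul, h2, h1]⟩
  obtain ⟨u, hu⟩ := hcyc.exists_generator
  have huord : orderOf (u : H) = 2 ^ m := by
    rw [Subgroup.orderOf_coe, orderOf_eq_card_of_forall_mem_zpowers hu, hm]
  set t : H := (u : H) ^ 2 ^ (m - 1) with ht
  have htord : orderOf t = 2 := by
    rw [ht, orderOf_pow' _ (by positivity), huord,
      Nat.gcd_eq_right (pow_dvd_pow 2 (Nat.sub_le m 1)), Nat.pow_div (Nat.sub_le m 1) two_pos,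
      show m - (m - 1) = 1 by omega, pow_one]
  have htS : t ∈ S := pow_mem u.2 _
  have huniq : ∀ g ∈ S, orderOf g = 2 → g = t := by
    intro g hg ho
    letI := Fintype.ofFinite S
    have h2 := IsCyclic.card_orderOf_eq_totient (α := S) (d := 2)
      (by rw [← Nat.card_eq_fintype_card, hm]; exact dvd_pow_self 2 (by omega))
    rw [Nat.totient_two] at h2
    by_contra hne
    have hsub : ({⟨g, hg⟩, ⟨t, htS⟩} : Finset S) ⊆
        (Finset.univ.filter fun x : S => orderOf x = 2) := by
      intro x hx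
      simp only [Finset.mem_insert, Finset.mem_singleton] at hx
      rw [Finset.mem_filter]
      refine ⟨Finset.mem_univ _, ?_⟩
      rcases hx with rfl | rfl
      · rw [Subgroup.orderOf_mk]; exact ho
      · rw [Subgroup.orderOf_mk]; exact htord
    have := Finset.card_le_card hsub
    rw [h2, Finset.card_pair (fun e => hne (congrArg Subtype.val e))] at this
    omega
  have ht1 : t ≠ 1 := fun e => by rw [e, orderOf_one] at htord; omega
  have hCT : centralizer ({t} : Set H) ≤ T := by
    intro g hg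
    have hc : g * t = t * g := mem_centralizer_singleton_iff.mp hg
    have hfix : ∀ x : X, t • x = x → x = a ∨ x = b := by
      intro x hx
      by_contra! hne
      exact ht1 (hG.three_fixed hab hne.2.symm hne.1.symm htS.1 htS.2 hx)
    have h1 := hfix (g • a) (by rw [← mul_smul, ← hc, mul_smul, show t • a = a from htS.1])
    have h2 := hfix (g • b) (by rw [← mul_smul, ← hc, mul_smul, show t • b = b from htS.2])
    have hne : g • a ≠ g • b := fun e => hab (MulAction.injective g e)
    refine hmemT.mpr ?_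
    rcases h1 with h1 | h1 <;> rcases h2 with h2 | h2
    · exact absurd (h1.trans h2.symm) hne
    · exact Or.inl ⟨h1, h2⟩
    · exact Or.inr ⟨h1, h2⟩
    · exact absurd (h1.trans h2.symm) hne
  have hNC : normalizer (T : Set H) ≤ centralizer ({t} : Set H) := by
    intro y hy
    set w : H := y * u * y⁻¹
    have hwT : w ∈ T := (mem_normalizer_iff.mp hy u).mp (hST u.2)
    have hwt : y * t * y⁻¹ = (w ^ 2) ^ 2 ^ (m - 2) := by
      rw [← pow_mul, ← pow_succ', show m - 2 + 1 = m - 1 by omega, conj_pow]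
    have hmem : y * t * y⁻¹ ∈ S := hwt ▸ pow_mem (hsq hwT) _
    have heq : y * t * y⁻¹ = t := huniq _ hmem (by
      rw [show y * t * y⁻¹ = MulAut.conj y t from rfl, MulEquiv.orderOf_eq, htord])
    rw [mem_centralizer_singleton_iff]
    calc y * t = y * t * y⁻¹ * y := by group
      _ = t * y := by rw [heq]
  have hN : normalizer (T : Set H) = T := le_antisymm (hNC.trans hCT) le_normalizer
  have hH : Nat.card H = 153 * 2 ^ (m + 1) := by rw [hcard, hm, pow_succ]; ring
  have h2T : ¬ 2 ∣ T.index := by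
    intro h
    have := T.card_mul_index
    rw [hTcard, hH] at this
    have h153 : T.index = 153 := by
      have hpos : 0 < 2 ^ (m + 1) := by positivity
      exact Nat.eq_of_mul_eq_mul_left hpos (this.trans (mul_comm _ _))
    omega
  let P : Sylow 2 H := (IsPGroup.of_card hTcard).toSylow h2T
  rw [Sylow.card_eq_index_normalizer P, show (P : Set H) = (T : Set H) from rfl, hN]
  have := T.card_mul_index
  rw [hTcard, hH] at this
  exact Nat.eq_of_mul_eq_mul_left (show 0 < 2 ^ (m + 1) by positivity) (this.trans (mul_comm _ _))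

/-- in the group of order 2448 every involution fixes a point -/
theorem exists_fixed_involution (h : Nat.card H = 2448) {z : H} (hz : orderOf z = 2) :
    ∃ x : X, z • x = x := by
  classical
  haveI := hG.finite_X
  letI := Fintype.ofFinite X
  haveI := hG.core_isSimple
  have htop : core H = ⊤ := eq_top_of_card_eq _ (hG.core_card.trans h.symm)
  by_contra! hno
  let φ := toPermHom H X
  let ψ : core H →* ℤˣ := (Equiv.Perm.sign.comp φ).comp (core H).subtype
  have hψ : ψ.ker = ⊤ := by
    refine ψ.normal_ker.eq_bot_or_eq_top.resolve_left fun hb => hG.core_comm ⟨⟨fun x y => ?_⟩⟩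
    exact (MonoidHom.ker_eq_bot_iff ψ).mp hb (by rw [map_mul, map_mul, mul_comm])
  have h1 : Equiv.Perm.sign (φ z) = 1 :=
    MonoidHom.mem_ker.mp (show (⟨z, htop ▸ mem_top z⟩ : core H) ∈ ψ.ker from hψ ▸ mem_top _)
  have hpow : φ z ^ 2 = 1 := by
    rw [← map_pow, show z ^ 2 = 1 from hz ▸ pow_orderOf_eq_one z, map_one]
  have hfp : Function.fixedPoints (φ z) = ∅ := Set.eq_empty_of_forall_notMem fun x hx => hno x hx
  rw [Equiv.Perm.sign_of_cycleType_eq_replicate two_pos (Equiv.Perm.cycleType_of_pow_prime_eq_one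
    (p := 2) hpow), if_neg (by decide), ← Nat.card_eq_fintype_card (α := X), hG.card_eq] at h1
  rw [show Fintype.card (Function.fixedPoints (φ z)) = 0 from by
    rw [Fintype.card_eq_zero_iff, hfp]; infer_instance] at h1
  revert h1
  decide

/-- in the group of order 2448 an element of order nine generates a Sylow 3-subgroup with
normaliser of order 18 -/
theorem card_sylow_three (h : Nat.card H = 2448) {g : H} (hg : orderOf g = 9) :
    Nat.card (Sylow 3 H) = 136 := by
  classical
  haveI := hG.finite_X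
  haveI : Fact (Nat.Prime 3) := ⟨Nat.prime_three⟩
  haveI : Fact (Nat.Prime 17) := ⟨by norm_num⟩
  haveI : Fact (Nat.Prime 2) := ⟨Nat.prime_two⟩
  obtain ⟨a₀, b₀, hab⟩ := hG.exists_pair
  set R := zpowers g with hR
  have hRc : Nat.card R = 3 ^ 2 := by rw [hR, Nat.card_zpowers, hg]; norm_num
  obtain ⟨P, hP⟩ := (IsPGroup.of_card hRc).exists_le_sylow
  have hRP : (P : Subgroup H) = R := (eq_of_le_of_card_ge hP (by
    rw [hRc, SmallOrders.card_sylow_subgroup (p := 3) (e := 2) (m := 272)
      (by rw [h]; norm_num) (by norm_num) P])).symm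
  set N := normalizer (R : Set H) with hN
  have hmul : Nat.card N * Nat.card (Sylow 3 H) = 2448 := by
    rw [Sylow.card_eq_index_normalizer P, show (P : Set H) = (R : Set H) from
      congrArg (fun K : Subgroup H => (K : Set H)) hRP, card_mul_index, h]
  have hstab : ∀ x : X, g • x ≠ x := by
    intro x hx
    have hd : orderOf g ∣ Nat.card (stabilizer H x) := orderOf_dvd_natCard _ hx
    obtain ⟨y, hy, -⟩ := hG.exists_other x x
    have h1 : Nat.card H = Nat.card X * Nat.card (stabilizer H x) := by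
      haveI := hG.pretransitive
      rw [← index_stabilizer_of_transitive H x, mul_comm, card_mul_index]
    rw [h, hG.card_eq] at h1
    rw [hg, show Nat.card (stabilizer H x) = 136 by omega] at hd
    norm_num at hd
  have hcomm : ∀ w : H, Commute w g → orderOf w ≠ 2 ∧ orderOf w ≠ 17 := by
    intro w hwg
    constructor
    · intro hw
      obtain ⟨x, hx⟩ := hG.exists_fixed_involution h hw
      have hgx : w • g • x = g • x := by rw [← mul_smul, hwg.eq, mul_smul, hx]
      have hggx : w • g • g • x = g • g • x := by rw [← mul_smul, hwg.eq, mul_smul, hgx]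
      have hw1 : w ≠ 1 := fun e => by rw [e, orderOf_one] at hw; omega
      have hne : g • g • x ≠ x := by
        intro e
        apply hstab x
        have hg2 : g ^ 2 ∈ stabilizer H x := by
          show g ^ 2 • x = x; rw [pow_two, mul_smul, e]
        have hg9 : g ^ 9 = 1 := hg ▸ pow_orderOf_eq_one g
        have : g ∈ stabilizer H x := by
          have h10 : (g ^ 2) ^ 5 = g := by rw [← pow_mul, show 2 * 5 = 9 + 1 from rfl, pow_succ, hg9, one_mul]
          exact h10 ▸ pow_mem hg2 5
        exact this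
      exact hw1 (hG.three_fixed (hstab x).symm (hstab (g • x)).symm hne.symm hx hgx hggx)
    · intro hw
      have hw17 : w ^ 17 = 1 := hw ▸ pow_orderOf_eq_one w
      obtain ⟨x, hx⟩ := hG.exists_fixed_of_pow hw17
      obtain ⟨Q, hcard, hnorm, hfix, htr, hfree⟩ := hG.exists_regular x
      have hwQ := hG.mem_regular hcard hnorm hfix htr hfree hx hw17
      have hgx : w • g • x = g • x := by rw [← mul_smul, hwg.eq, mul_smul, hx]
      have := hfree w hwQ (g • x) (hstab x) hgx
      rw [this, orderOf_one] at hw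
      omega
  let θ := R.normalizerMonoidHom
  have hker : Nat.card N = Nat.card θ.ker * Nat.card θ.range := by
    rw [← index_ker, card_mul_index]
  have hrange : Nat.card θ.range ∣ 6 := by
    have := card_subgroup_dvd_card θ.range
    rwa [IsCyclic.card_mulAut, hRc, Nat.totient_prime_pow Nat.prime_three two_pos] at this
  have hkerdiv : ∀ p, p.Prime → (p = 2 ∨ p = 17) → ¬ p ∣ Nat.card θ.ker := by
    intro p hp hp' hd
    haveI := Fact.mk hp
    obtain ⟨w, hw⟩ := exists_prime_orderOf_dvd_card' p hd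
    have hwo : orderOf ((w : N) : H) = p := by rw [Subgroup.orderOf_coe, Subgroup.orderOf_coe, hw]
    have hwc : Commute ((w : N) : H) g := by
      have hw' : θ (w : N) = 1 := w.2
      have : ((w : N) : H) * g * ((w : N) : H)⁻¹ = g :=
        congrArg Subtype.val (DFunLike.congr_fun hw' (⟨g, mem_zpowers g⟩ : R))
      show _ = _
      calc ((w : N) : H) * g = ((w : N) : H) * g * ((w : N) : H)⁻¹ * ((w : N) : H) := by group
        _ = g * ((w : N) : H) := by rw [this]
    rcases hp' with rfl | rfl
    · exact (hcomm _ hwc).1 hwo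
    · exact (hcomm _ hwc).2 hwo
  have h2 : ¬ 4 ∣ Nat.card N := by
    intro h4
    rw [hker] at h4
    rcases Nat.prime_two.eq_one_or_self_of_dvd _ (Nat.gcd_dvd_right (Nat.card θ.ker) 2) with e | e
    · have hc4 : Nat.Coprime 4 (Nat.card θ.ker) := by
        rw [show (4 : ℕ) = 2 ^ 2 from rfl]
        exact Nat.Coprime.pow_left _ (Nat.coprime_iff_gcd_eq_one.mpr (by rw [Nat.gcd_comm]; exact e))
      have := (Nat.dvd_trans (hc4.dvd_of_dvd_mul_left h4) hrange)
      norm_num at this
    · exact hkerdiv 2 Nat.prime_two (Or.inl rfl) (e ▸ Nat.gcd_dvd_left _ _)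
  have h17 : ¬ 17 ∣ Nat.card N := by
    intro hd
    rw [hker] at hd
    rcases (Nat.Prime.dvd_mul (by norm_num)).mp hd with hd | hd
    · exact hkerdiv 17 (by norm_num) (Or.inr rfl) hd
    · have := hd.trans hrange; norm_num at this
  have hmod : Nat.card (Sylow 3 H) % 3 = 1 := card_sylow_modEq_one 3 H
  have hdvd : Nat.card (Sylow 3 H) ∣ 2448 := Dvd.intro_left _ hmul
  obtain ⟨c, hc⟩ : 9 ∣ Nat.card N := by
    have := card_dvd_of_le (le_normalizer : R ≤ N)
    rwa [hRc] at this
  rw [hc] at hmul h2 h17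
  have hprod : c * Nat.card (Sylow 3 H) = 272 := by
    have : 9 * (c * Nat.card (Sylow 3 H)) = 9 * 272 := by rw [← mul_assoc, hmul]
    omega
  have hcd : c ∈ Nat.divisors 272 := Nat.mem_divisors.mpr ⟨⟨_, hprod.symm⟩, by norm_num⟩
  rw [show Nat.divisors 272 = {1, 2, 4, 8, 16, 17, 34, 68, 136, 272} by decide] at hcd
  simp only [Finset.mem_insert, Finset.mem_singleton] at hcd
  rcases hcd with rfl | rfl | rfl | rfl | rfl | rfl | rfl | rfl | rfl | rfl <;>
    first | omega | (exfalso; omega) | (exact absurd (by norm_num) h2) | (exact absurd (by norm_num) h17)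

end Geo

end Cfsg.Agent.SylowSeventeen
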