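import Cfsg.Agent.Lib.SylowSeventeen.Recognise
import Cfsg.Agent.Lib.PGroup.Basic

/-!
Groups whose Sylow numbers are 18, 136 and 153 (helper71).

* `card_sylow_congr`, `inf_ker_eq`
* `ker_eq_bot`: the kernel on the Sylow 17-subgroups is trivial
-/

set_option autoImplicit false

namespace Cfsg.Agent.SylowSeventeen

open Subgroup

theorem card_sylow_congr {A B : Type*} [Group A] [Group B] [Finite A] [Finite B] (p : ℕ)
    [Fact p.Prime] (e : A ≃* B) : Nat.card (Sylow p A) = Nat.card (Sylow p B) :=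
  le_antisymm
    (Nat.card_le_card_of_surjective _
      (Sylow.mapSurjective_surjective (f := e.symm.toMonoidHom) e.symm.surjective p))
    (Nat.card_le_card_of_surjective _
      (Sylow.mapSurjective_surjective (f := e.toMonoidHom) e.surjective p))

variable {G : Type*} [Group G] [Finite G]

/-- if `K` normalises every Sylow subgroup, it meets all of them in one normal subgroup -/
theorem inf_le_inf {p : ℕ} [Fact p.Prime] {K : Subgroup G}
    (hK : ∀ P : Sylow p G, K ≤ normalizer ((P : Subgroup G) : Set G)) (P Q : Sylow p G) :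
    K ⊓ (Q : Subgroup G) ≤ K ⊓ (P : Subgroup G) := by
  refine le_inf inf_le_left fun x hx => ?_
  have h1 : IsPGroup p ↥(K ⊓ (Q : Subgroup G)) := Q.isPGroup'.to_le inf_le_right
  have : x ∈ (K ⊓ (Q : Subgroup G)) ⊓ (P : Subgroup G) := by
    rw [← h1.inf_normalizer_sylow P]
    exact ⟨hx, hK P hx.1⟩
  exact this.2

theorem inf_normal {p : ℕ} [Fact p.Prime] {K : Subgroup G} [hKn : K.Normal]
    (hK : ∀ P : Sylow p G, K ≤ normalizer ((P : Subgroup G) : Set G)) (P : Sylow p G) :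
    (K ⊓ (P : Subgroup G)).Normal := ⟨fun n hn g => by
  refine inf_le_inf hK P (g • P) ⟨hKn.conj_mem n hn.1 g, ?_⟩
  rw [Sylow.coe_subgroup_smul]
  exact ⟨n, hn.2, rfl⟩⟩

/-- no prime outside `{2, 3, 17}` -/
theorem false_of_other_prime {K : Subgroup G} [K.Normal] {r : ℕ} [Fact r.Prime]
    (hrG : r ∣ Nat.card G) (hrK : ¬ r ∣ K.index) (hr17 : r ≠ 17) (hr2 : ¬ r ∣ 16)
    (hK : haveI : Fact (Nat.Prime 17) := ⟨by norm_num⟩
      ∀ P : Sylow 17 G, K ≤ normalizer ((P : Subgroup G) : Set G))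
    (hn17 : 17 ∣ Nat.card (Sylow r G)) (hn17' : ¬ 17 ^ 2 ∣ Nat.card (Sylow r G)) : False := by
  classical
  haveI : Fact (Nat.Prime 17) := ⟨by norm_num⟩
  obtain ⟨P⟩ := (inferInstance : Nonempty (Sylow 17 G))
  set D := K ⊓ (P : Subgroup G) with hD
  haveI : D.Normal := inf_normal hK P
  obtain ⟨R⟩ := (inferInstance : Nonempty (Sylow r G))
  have hRK : (R : Subgroup G) ≤ K := by
    intro x hx
    rw [← QuotientGroup.eq_one_iff, ← orderOf_eq_one_iff]
    obtain ⟨j, hj⟩ := R.isPGroup' ⟨x, hx⟩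
    have h1 : orderOf (x : G ⧸ K) ∣ r ^ j := orderOf_dvd_of_pow_eq_one (by
      rw [← QuotientGroup.mk_pow, show x ^ r ^ j = 1 from congrArg Subtype.val hj]
      rfl)
    have h2 : orderOf (x : G ⧸ K) ∣ K.index := by
      rw [index_eq_card]; exact orderOf_dvd_natCard _
    exact Nat.eq_one_of_dvd_coprimes
      (Nat.Coprime.pow_left j ((Fact.out : r.Prime).coprime_iff_not_dvd.mpr hrK)) h1 h2
  have hmul := SylowCount.card_sylow_eq_quotient_mul D R
  rw [SylowCount.card_sylow_sup_eq] at hmul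
  set c := (normalizer ((R : Subgroup G) : Set G)).relIndex D with hc
  have hcD : c ∣ Nat.card D := by
    rw [hc, relIndex]; exact index_dvd_card _
  obtain ⟨k, hk⟩ := (P.isPGroup'.to_le (inf_le_right : D ≤ _)).exists_card_eq
  rw [hk] at hcD
  obtain ⟨i, -, hi⟩ := (Nat.dvd_prime_pow (by norm_num)).mp hcD
  -- the count in the quotient is prime to 17
  have hs := QuotientGroup.mk'_surjective D
  set Rq : Sylow r (G ⧸ D) := R.mapSurjective hs
  haveI : (K.map (QuotientGroup.mk' D)).Normal := ‹K.Normal›.map _ hs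
  have hq : Nat.card (Sylow r (K.map (QuotientGroup.mk' D))) = Nat.card (Sylow r (G ⧸ D)) :=
    SylowCount.card_sylow_of_sylow_le Rq _ (by
      rw [Sylow.coe_mapSurjective]; exact map_mono hRK)
  have h17q : ¬ 17 ∣ Nat.card (K.map (QuotientGroup.mk' D)) := by
    intro h
    obtain ⟨y, hy⟩ := exists_prime_orderOf_dvd_card' 17 h
    have hy' : orderOf (y : G ⧸ D) = 17 := by rw [Subgroup.orderOf_coe, hy]
    obtain ⟨Q, hQ⟩ := (IsPGroup.of_card (p := 17) (n := 1)
      (show Nat.card (zpowers (y : G ⧸ D)) = 17 ^ 1 by rw [Nat.card_zpowers, hy', pow_one])).exists_le_sylow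
    obtain ⟨Q', hQ'⟩ := Sylow.mapSurjective_surjective hs 17 Q
    have hmem : (y : G ⧸ D) ∈ (Q' : Subgroup G).map (QuotientGroup.mk' D) := by
      rw [← Sylow.coe_mapSurjective (hf := hs), hQ']
      exact hQ (mem_zpowers _)
    obtain ⟨q, hq', hqy⟩ := hmem
    obtain ⟨w, hw, hwy⟩ := y.2
    have hqK : q ∈ K := by
      have h1 : w⁻¹ * q ∈ D := QuotientGroup.eq.mp (hwy.trans hqy.symm)
      simpa using mul_mem hw h1.1
    have hqD : q ∈ D := inf_le_inf hK P Q' ⟨hqK, hq'⟩
    rw [← hqy, QuotientGroup.mk'_apply, (QuotientGroup.eq_one_iff q).mpr hqD, orderOf_one] at hy'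
    norm_num at hy'
  have hnq : ¬ 17 ∣ Nat.card (Sylow r (G ⧸ D)) := by
    rw [← hq]
    intro h
    obtain ⟨S⟩ := (inferInstance : Nonempty (Sylow r (K.map (QuotientGroup.mk' D))))
    exact h17q (h.trans (S.card_dvd_index.trans (index_dvd_card _)))
  rw [hmul, hi] at hn17 hn17'
  have hi0 : i ≠ 0 := by
    rintro rfl
    exact hnq (by simpa using hn17)
  have hi1 : i = 1 := by
    by_contra h
    exact hn17' ((pow_dvd_pow 17 (show 2 ≤ i by omega)).mul_left _)
  -- seventeen is not 1 modulo r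
  have hmod : c ≡ 1 [MOD r] := by
    rw [hc, ← SylowCount.card_sylow_sup_eq]
    exact card_sylow_modEq_one r _
  rw [hi, hi1, pow_one] at hmod
  exact hr2 ((Nat.modEq_iff_dvd' (by norm_num)).mp hmod.symm)

/-- a kernel normalising all Sylow subgroups dies if the centre is trivial -/
theorem ker_eq_bot (hZ : center G = ⊥) {K : Subgroup G} [K.Normal] (π : List ℕ)
    (hπ : ∀ p : ℕ, p.Prime → p ∣ Nat.card G → p ∈ π)
    (hK : ∀ (p : ℕ) (_ : Fact p.Prime), p ∈ π → ∀ P : Sylow p G, K ≤ normalizer ((P : Subgroup G) : Set G)) :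
    K = ⊥ := by
  classical
  by_contra hne
  obtain ⟨p, hp, hpK⟩ := Nat.exists_prime_and_dvd (fun h => hne (eq_bot_of_card_eq K h))
  haveI := Fact.mk hp
  have hpπ := hπ p hp (hpK.trans (card_subgroup_dvd_card K))
  obtain ⟨x, hx⟩ := exists_prime_orderOf_dvd_card' p hpK
  obtain ⟨P, hP⟩ := (IsPGroup.of_card (p := p) (n := 1)
    (show Nat.card (zpowers (x : G)) = p ^ 1 by rw [Nat.card_zpowers, Subgroup.orderOf_coe, hx, pow_one])).exists_le_sylow
  set A := K ⊓ (P : Subgroup G) with hA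
  have hxA : (x : G) ∈ A := ⟨x.2, hP (mem_zpowers _)⟩
  haveI hAn : A.Normal := inf_normal (hK p ⟨hp⟩ hpπ) P
  have hA' : A.subgroupOf (P : Subgroup G) ≠ ⊥ := by
    intro h
    have h1 : (⟨(x : G), hxA.2⟩ : (P : Subgroup G)) ∈ A.subgroupOf (P : Subgroup G) := hxA
    rw [h, Subgroup.mem_bot] at h1
    have : x = 1 := Subtype.ext (congrArg Subtype.val h1 :)
    rw [this, orderOf_one] at hx
    exact hp.ne_one hx.symm
  haveI : (A.subgroupOf (P : Subgroup G)).Normal := hAn.comap _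
  obtain ⟨z, hz, hz1⟩ := (bot_or_exists_ne_one _).resolve_left
    (PGroup.inf_center_ne_bot (N := A.subgroupOf (P : Subgroup G)) P.isPGroup' hA')
  have hzA : (z : G) ∈ A := hz.1
  have hsyl : ∀ (q : ℕ) (_ : Fact q.Prime), q ∈ π → ∃ Q : Sylow q G,
      (Q : Subgroup G) ≤ centralizer ({(z : G)} : Set G) := by
    intro q _ hq
    by_cases hqp : q = p
    · subst hqp
      exact ⟨P, fun y hy => mem_centralizer_singleton_iff.mpr
        (congrArg Subtype.val (mem_center_iff.mp hz.2 ⟨y, hy⟩))⟩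
    · obtain ⟨Q⟩ := (inferInstance : Nonempty (Sylow q G))
      refine ⟨Q, fun y hy => mem_centralizer_singleton_iff.mpr ?_⟩
      have h1 : (z : G) * y * (z : G)⁻¹ * y⁻¹ ∈ A := by
        have := mul_mem hzA (hAn.conj_mem _ (inv_mem hzA) y)
        simpa [mul_assoc] using this
      have h2 : (z : G) * y * (z : G)⁻¹ * y⁻¹ ∈ (Q : Subgroup G) :=
        mul_mem ((mem_normalizer_iff.mp (hK q ‹_› hq Q hzA.1) y).mp hy) (inv_mem hy)
      have h3 : (z : G) * y * (z : G)⁻¹ * y⁻¹ = 1 := by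
        have hdis : (P : Subgroup G) ⊓ (Q : Subgroup G) = ⊥ :=
          disjoint_iff.mp (IsPGroup.disjoint_of_ne p q (Ne.symm hqp) _ _ P.isPGroup' Q.isPGroup')
        rw [← Subgroup.mem_bot (G := G), ← hdis]
        exact ⟨h1.2, h2⟩
      rw [mul_inv_eq_one, mul_inv_eq_iff_eq_mul] at h3
      exact h3.symm
  have hzc : (z : G) ∈ center G := by
    have htop : centralizer ({(z : G)} : Set G) = ⊤ := by
      rw [← index_eq_one]
      by_contra h
      obtain ⟨q, hq, hqd⟩ := Nat.exists_prime_and_dvd h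
      haveI := Fact.mk hq
      obtain ⟨Q, hQ⟩ := hsyl q ⟨hq⟩ (hπ q hq (hqd.trans (index_dvd_card _)))
      exact Q.not_dvd_index (hqd.trans (index_dvd_of_le hQ))
    exact mem_center_iff.mpr fun y => mem_centralizer_singleton_iff.mp (htop ▸ mem_top y)
  rw [hZ, Subgroup.mem_bot] at hzc
  exact hz1 (Subtype.ext hzc)

end Cfsg.Agent.SylowSeventeen
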