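import Cfsg.Agent.Lib.SylowSeventeen.Fine
import Cfsg.Agent.Lib.SylowCount.Basic
import Cfsg.Agent.Lib.AutPSL.Count
import Cfsg.Agent.Lib.GLOrder.Basic
import Cfsg.Agent.S1020

/-!
Identification of the groups on eighteen points (helper71).

* `exists_orderOf_nine`: `PSL₂(17)` has an element of order 9
* `pgl_equiv_mulAut`: `PGL₂(p) ≃* Aut PSL₂(p)`
* `card_sylow_three_eq`, `recognise`
-/

set_option autoImplicit false

open Matrix
open scoped MatrixGroups

namespace Cfsg.Agent.SylowSeventeen

theorem fact_seventeen : Fact (Nat.Prime 17) := ⟨by norm_num⟩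

attribute [local instance] fact_seventeen

theorem exists_orderOf_nine :
    ∃ x : ProjectiveSpecialLinearGroup (Fin 2) (ZMod 17), orderOf x = 9 := by
  let s : SpecialLinearGroup (Fin 2) (ZMod 17) :=
    ⟨!![0, 16; 1, 3], by rw [Matrix.det_fin_two]; decide⟩
  let u : SpecialLinearGroup (Fin 2) (ZMod 17) :=
    ⟨!![1, 1; 0, 1], by rw [Matrix.det_fin_two]; decide⟩
  refine ⟨QuotientGroup.mk' _ s, ?_⟩
  refine orderOf_eq_prime_pow (p := 3) (n := 1) (hp := ⟨by norm_num⟩) ?_ ?_
  · rw [← map_pow, QuotientGroup.mk'_apply, QuotientGroup.eq_one_iff]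
    intro h
    have := Subgroup.mem_center_iff.mp h u
    revert this
    decide
  · rw [← map_pow, QuotientGroup.mk'_apply, QuotientGroup.eq_one_iff, Subgroup.mem_center_iff]
    have h9 : ((s ^ 3 ^ (1 + 1) : SpecialLinearGroup (Fin 2) (ZMod 17)) : Matrix (Fin 2) (Fin 2) (ZMod 17)) = -1 := by
      decide
    intro g
    refine Subtype.ext ?_
    show ((g * s ^ 3 ^ (1 + 1) : SpecialLinearGroup (Fin 2) (ZMod 17)) : Matrix (Fin 2) (Fin 2) (ZMod 17)) = _
    rw [Matrix.SpecialLinearGroup.coe_mul, Matrix.SpecialLinearGroup.coe_mul, h9, mul_neg, mul_one,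
      neg_mul, one_mul]

theorem pgl_equiv_mulAut {F : Type*} [Field F] [Fintype F] {p : ℕ} [Fact p.Prime]
    (hF : Fintype.card F = p) :
    Nonempty ((GL (Fin 2) F ⧸ Subgroup.center (GL (Fin 2) F)) ≃*
      MulAut (ProjectiveSpecialLinearGroup (Fin 2) F)) := by
  obtain ⟨-, hcard⟩ := AutPSL.fieldAut_facts (F := F) p 1 le_rfl (by rw [hF, pow_one])
  haveI : Subsingleton (F ≃+* F) := (Nat.card_eq_one_iff_unique.mp hcard).1
  let θ : GL (Fin (0 + 2)) F →* MulAut (ProjectiveSpecialLinearGroup (Fin (0 + 2)) F) :=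
    MonoidHom.mk' (fun g => AutPSL.semi g (RingEquiv.refl F))
      fun g h => (AutPSL.semi_refl_mul g h).symm
  have hsurj : Function.Surjective θ := fun α => by
    obtain ⟨g, σ, h⟩ := AutPSL.exists_semi_of_two α
    refine ⟨g, ?_⟩
    rw [h, Subsingleton.elim σ (RingEquiv.refl F)]
    rfl
  have hker : Subgroup.center (GL (Fin (0 + 2)) F) = θ.ker := by
    ext g
    rw [MonoidHom.mem_ker]
    exact ⟨fun h => AutPSL.semi_eq_one_iff.mpr ⟨rfl, h⟩, fun h => (AutPSL.semi_eq_one_iff.mp h).2⟩
  exact ⟨(QuotientGroup.quotientMulEquivOfEq hker).trans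
    (QuotientGroup.quotientKerEquivOfSurjective θ hsurj)⟩

namespace Geo

variable {H X : Type*} [Group H] [Finite H] [MulAction H X] [FaithfulSMul H X] (hG : Geo H X)
include hG

theorem card_sylow_three_eq : Nat.card (Sylow 3 H) = 136 := by
  haveI : Fact (Nat.Prime 17) := ⟨by norm_num⟩
  haveI : Fact (Nat.Prime 3) := ⟨Nat.prime_three⟩
  haveI := hG.core_isSimple
  obtain ⟨e⟩ := S1020.result (G := core H) hG.core_card (F := ZMod 17) (ZMod.card 17)
  obtain ⟨x, hx⟩ := exists_orderOf_nine
  have h136 : Nat.card (Sylow 3 (core H)) = 136 :=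
    hG.core_geo.card_sylow_three hG.core_card (g := e.symm x) (by rw [MulEquiv.orderOf_eq, hx])
  obtain ⟨Q⟩ := (inferInstance : Nonempty (Sylow 3 (core H)))
  have hQ : Nat.card ((Q : Subgroup (core H)).map (core H).subtype) = 3 ^ 2 := by
    rw [Subgroup.card_map_of_injective (core H).subtype_injective,
      SmallOrders.card_sylow_subgroup (p := 3) (e := 2) (m := 272)
        (by rw [hG.core_card]; norm_num) (by norm_num) Q]
  obtain ⟨P, hP⟩ := (IsPGroup.of_card hQ).exists_le_sylow
  have hPc : Nat.card (P : Subgroup H) = 3 ^ 2 := by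
    rcases hG.card_cases with h | h
    · exact SmallOrders.card_sylow_subgroup (m := 272) (by rw [h]; norm_num) (by norm_num) P
    · exact SmallOrders.card_sylow_subgroup (m := 544) (by rw [h]; norm_num) (by norm_num) P
  have hle : (P : Subgroup H) ≤ core H := by
    rw [← Subgroup.eq_of_le_of_card_ge hP (by rw [hQ, hPc])]
    exact Subgroup.map_subtype_le _
  rw [← SylowCount.card_sylow_of_sylow_le P (core H) hle, h136]

theorem recognise {F : Type*} [Field F] [Fintype F] (hF : Fintype.card F = 17) :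
    Nonempty (H ≃* ProjectiveSpecialLinearGroup (Fin 2) F) ∨
      Nonempty (H ≃* (GL (Fin 2) F ⧸ Subgroup.center (GL (Fin 2) F))) := by
  haveI : Fact (Nat.Prime 17) := ⟨by norm_num⟩
  haveI := hG.core_isSimple
  obtain ⟨e⟩ := S1020.result (G := core H) hG.core_card hF
  rcases hG.card_cases with h | h
  · left
    exact ⟨(Subgroup.topEquiv.symm.trans (MulEquiv.subgroupCongr
      (Subgroup.eq_top_of_card_eq _ (hG.core_card.trans h.symm)).symm)).trans e⟩
  · right
    obtain ⟨η⟩ := pgl_equiv_mulAut (F := F) hF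
    let ι : H →* MulAut (ProjectiveSpecialLinearGroup (Fin 2) F) :=
      (MulAut.congr e).toMonoidHom.comp MulAut.conjNormal
    have hinj : Function.Injective ι := by
      rw [injective_iff_map_eq_one]
      intro g hg
      have h1 : (MulAut.conjNormal g : MulAut (core H)) = 1 :=
        (MulAut.congr e).injective (hg.trans (map_one _).symm)
      rw [← Subgroup.mem_bot, ← hG.centralizer_core]
      refine Subgroup.mem_centralizer_iff.mpr fun y hy => ?_
      have h2 : g * y * g⁻¹ = y := by
        have := congrArg Subtype.val (DFunLike.congr_fun h1 (⟨y, hy⟩ : core H))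
        rwa [MulAut.conjNormal_apply] at this
      calc y * g = g * y * g⁻¹ * g := by rw [h2]
        _ = g * y := by group
    have hcard : Nat.card (MulAut (ProjectiveSpecialLinearGroup (Fin 2) F)) = 4896 := by
      rw [AutPSL.card_mulAut (m := 0) 17 1 le_rfl (by rw [Nat.card_eq_fintype_card, hF, pow_one]),
        if_pos rfl, one_mul, one_mul, GLOrder.card_PGL_two, Nat.card_eq_fintype_card, hF]
      norm_num
    haveI : Finite (MulAut (ProjectiveSpecialLinearGroup (Fin 2) F)) :=
      Nat.finite_of_card_ne_zero (by rw [hcard]; norm_num)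
    exact ⟨(MulEquiv.ofBijective ι (hinj.bijective_of_nat_card_le (by rw [hcard, h]))).trans η.symm⟩

end Geo

end Cfsg.Agent.SylowSeventeen
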